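import Groth.Agent.ArLefNode.Main

/-!
The node over a field: the length of the fixed-point scheme in terms of the two branches.
-/

set_option autoImplicit false
set_option linter.style.haveILetI false
set_option linter.unusedSectionVars false
set_option backward.isDefEq.respectTransparency false

universe u

open ArLef IsLocalRing

namespace Groth.Agent.ArLefNode

theorem field_branches (k : Type u) [Field k] (σ : NodeAlg k 0 ≃ₐ[k] NodeAlg k 0)
    (α β : NodeAlg k 0) (ht : σ (NodeAlg.t (0 : k)) = α * NodeAlg.t (0 : k))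
    (he : σ (NodeAlg.e (0 : k)) = β * NodeAlg.e (0 : k)) :
    len (fixIdeal σ) + 1 = len (fixIdeal σ ⊔ Ideal.span {NodeAlg.t (0 : k)}) +
      len (fixIdeal σ ⊔ Ideal.span {NodeAlg.e (0 : k)}) := by
  have hmax : maximalIdeal k = Ideal.span {(0 : k)} := by
    rw [IsLocalRing.maximalIdeal_eq_bot, Ideal.span_singleton_eq_bot.2 rfl]
  let tN := NodeAlg.t (0 : k)
  let eN := NodeAlg.e (0 : k)
  let p : NodeAlg k 0 := (α - 1) * tN
  let q : NodeAlg k 0 := (β - 1) * eN
  let I := fixIdeal σ
  let I₁ := I ⊔ Ideal.span {tN}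
  let I₂ := I ⊔ Ideal.span {eN}
  let m := Ideal.span ({tN, eN} : Set (NodeAlg k 0))
  have hp : σ tN - tN = p := by simp only [p, tN, ht]; ring
  have hq : σ eN - eN = q := by simp only [q, eN, he]; ring
  have hI : I = Ideal.span ({p, q} : Set (NodeAlg k 0)) := by
    refine fixIdeal_eq_span_pair (0 : k) hmax (σ := σ.toRingEquiv) ?_ ?_ (fun b => ?_) ?_ ?_
    · exact hp ▸ mem_fixIdeal (0 : k) hmax σ.toRingEquiv tN
    · exact hq ▸ mem_fixIdeal (0 : k) hmax σ.toRingEquiv eN
    · change σ (algebraMap k _ b) - _ ∈ _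
      rw [σ.commutes, sub_self]
      exact zero_mem _
    · change σ tN - tN ∈ _
      rw [hp]; exact Ideal.subset_span (Set.mem_insert _ _)
    · change σ eN - eN ∈ _
      rw [hq]; exact Ideal.subset_span (Set.mem_insert_of_mem _ rfl)
  have hte : tN * eN = 0 := (t_mul_e (0 : k)).trans (map_zero _)
  have hIm : I ≤ m := by
    rw [hI, Ideal.span_le, Set.insert_subset_iff, Set.singleton_subset_iff]
    exact ⟨Ideal.mul_mem_left _ _ (Ideal.subset_span (Set.mem_insert _ _)),
      Ideal.mul_mem_left _ _ (Ideal.subset_span (Set.mem_insert_of_mem _ rfl))⟩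
  have h1m : I₁ ≤ m := sup_le hIm (Ideal.span_mono (Set.singleton_subset_iff.2 (Set.mem_insert _ _)))
  have h2m : I₂ ≤ m := sup_le hIm
    (Ideal.span_mono (Set.singleton_subset_iff.2 (Set.mem_insert_of_mem _ rfl)))
  let f : (NodeAlg k 0 ⧸ I) →ₗ[NodeAlg k 0] (NodeAlg k 0 ⧸ I₁) × (NodeAlg k 0 ⧸ I₂) :=
    (Submodule.factor (le_sup_left : I ≤ I₁)).prod (Submodule.factor (le_sup_left : I ≤ I₂))
  let g : (NodeAlg k 0 ⧸ I₁) × (NodeAlg k 0 ⧸ I₂) →ₗ[NodeAlg k 0] NodeAlg k 0 ⧸ m :=
    (Submodule.factor h1m).comp (LinearMap.fst _ _ _) -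
      (Submodule.factor h2m).comp (LinearMap.snd _ _ _)
  have hinj : Function.Injective f := by
    rw [← LinearMap.ker_eq_bot, eq_bot_iff]
    intro z hz
    obtain ⟨x, rfl⟩ := Submodule.mkQ_surjective I z
    have h1 : x ∈ I₁ := (Submodule.Quotient.mk_eq_zero I₁).1 (congrArg Prod.fst hz)
    have h2 : x ∈ I₂ := (Submodule.Quotient.mk_eq_zero I₂).1 (congrArg Prod.snd hz)
    rw [Submodule.mem_bot, Submodule.mkQ_apply, Submodule.Quotient.mk_eq_zero]
    simp only [I₁, I₂, hI, Ideal.span_insert, sup_assoc] at h1 h2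
    obtain ⟨x1, hx1, w, hw, rfl⟩ := Submodule.mem_sup.1 h1
    obtain ⟨x2, hx2, x3, hx3, rfl⟩ := Submodule.mem_sup.1 hw
    obtain ⟨y, rfl⟩ := Ideal.mem_span_singleton'.1 hx1
    obtain ⟨y', rfl⟩ := Ideal.mem_span_singleton'.1 hx2
    obtain ⟨z, rfl⟩ := Ideal.mem_span_singleton'.1 hx3
    have hz : z ∈ Ideal.span {eN} ⊔ Ideal.span {α - 1} := by
      have h3 : z * tN ∈ Ideal.span {eN} ⊔ Ideal.span {p} := by
        have hsub : ∀ r : NodeAlg k 0, r * p ∈ Ideal.span {eN} ⊔ Ideal.span {p} := fun r =>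
          Ideal.mem_sup_right (Ideal.mul_mem_left _ _ (Ideal.mem_span_singleton_self _))
        have hsub' : ∀ r : NodeAlg k 0, r * q ∈ Ideal.span {eN} ⊔ Ideal.span {p} := fun r =>
          Ideal.mem_sup_left (Ideal.mul_mem_left _ _ (Ideal.mul_mem_left _ _
            (Ideal.mem_span_singleton_self _)))
        have h2' : y * p + (y' * q + z * tN) ∈ Ideal.span {eN} ⊔ Ideal.span {p} := by
          have hle : Ideal.span {p} ⊔ (Ideal.span {q} ⊔ Ideal.span {eN}) ≤
              Ideal.span {eN} ⊔ Ideal.span {p} := by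
            refine sup_le le_sup_right (sup_le ?_ le_sup_left)
            rw [Ideal.span_le, Set.singleton_subset_iff]
            simpa using hsub' 1
          exact hle h2
        have := sub_mem (sub_mem h2' (hsub y)) (hsub' y')
        rwa [add_sub_cancel_left, add_sub_cancel_left] at this
      obtain ⟨u, hu, v, hv, huv⟩ := Submodule.mem_sup.1 h3
      obtain ⟨v', rfl⟩ := Ideal.mem_span_singleton'.1 hv
      have h4 : (z - v' * (α - 1)) * tN ∈ Ideal.span {eN} := by
        have : (z - v' * (α - 1)) * tN = u := by simp only [p] at huv; linear_combination -huv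
        rw [this]; exact hu
      have h5 : z - v' * (α - 1) ∈ Ideal.span {eN} :=
        ((isPrime_span (0 : k) hmax 1).mem_or_mem h4).resolve_right (te_notMem (0 : k) hmax).2
      have := add_mem (Ideal.mem_sup_left (T := Ideal.span {α - 1}) h5)
        (Ideal.mem_sup_right (S := Ideal.span {eN})
          (Ideal.mul_mem_left _ v' (Ideal.mem_span_singleton_self (α - 1))))
      rwa [sub_add_cancel] at this
    obtain ⟨u, hu, v, hv, rfl⟩ := Submodule.mem_sup.1 hz
    obtain ⟨u', rfl⟩ := Ideal.mem_span_singleton'.1 hu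
    obtain ⟨v', rfl⟩ := Ideal.mem_span_singleton'.1 hv
    rw [hI, Ideal.mem_span_pair]
    refine ⟨y + v', y', ?_⟩
    linear_combination -u' * hte
  have hsurj : Function.Surjective g := fun z => by
    obtain ⟨x, rfl⟩ := Submodule.mkQ_surjective m z
    exact ⟨(Submodule.Quotient.mk x, 0), by simp [g]⟩
  have hex : Function.Exact f g := by
    rw [LinearMap.exact_iff]
    ext ⟨z, w⟩
    obtain ⟨x, rfl⟩ := Submodule.mkQ_surjective I₁ z
    obtain ⟨y, rfl⟩ := Submodule.mkQ_surjective I₂ w
    rw [LinearMap.mem_ker]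
    change (Submodule.Quotient.mk x : NodeAlg k 0 ⧸ m) - Submodule.Quotient.mk y = 0 ↔ _
    rw [← Submodule.Quotient.mk_sub, Submodule.Quotient.mk_eq_zero]
    constructor
    · intro h
      obtain ⟨r, s, hrs⟩ := Ideal.mem_span_pair.1 h
      refine ⟨Submodule.Quotient.mk (x - r * tN), Prod.ext ?_ ?_⟩
      · change (Submodule.Quotient.mk (x - r * tN) : NodeAlg k 0 ⧸ I₁) = Submodule.Quotient.mk x
        rw [Submodule.Quotient.eq, sub_sub_cancel_left]
        exact neg_mem (Ideal.mem_sup_right (Ideal.mul_mem_left _ _ (Ideal.mem_span_singleton_self _)))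
      · change (Submodule.Quotient.mk (x - r * tN) : NodeAlg k 0 ⧸ I₂) = Submodule.Quotient.mk y
        rw [Submodule.Quotient.eq, show x - r * tN - y = s * eN by linear_combination -hrs]
        exact Ideal.mem_sup_right (Ideal.mul_mem_left _ _ (Ideal.mem_span_singleton_self _))
    · rintro ⟨c, hc⟩
      obtain ⟨c, rfl⟩ := Submodule.mkQ_surjective I c
      have h1 : c - x ∈ I₁ := (Submodule.Quotient.eq I₁).1 (congrArg Prod.fst hc)
      have h2 : c - y ∈ I₂ := (Submodule.Quotient.eq I₂).1 (congrArg Prod.snd hc)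
      have := sub_mem (h2m h2) (h1m h1)
      rwa [sub_sub_sub_cancel_left] at this
  have h := Module.length_eq_add_of_exact f g hinj hsurj hex
  rw [Module.length_prod] at h
  change len I₁ + len I₂ = len I + len m at h
  rw [len_te (0 : k) hmax] at h
  exact h.symm

end Groth.Agent.ArLefNode
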