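import Mathlib

/-!
Two lifts of an automorphism along a separated unramified morphism that agree at a point agree
everywhere on a connected source; the localisation estimate at the generic point of a component.
-/

set_option autoImplicit false
set_option linter.style.haveILetI false
set_option linter.unusedSectionVars false
set_option backward.isDefEq.respectTransparency false

universe u

open AlgebraicGeometry CategoryTheory Limits Category

namespace Groth.Agent.ArLefNode

theorem lifts_eq {C D : Scheme.{u}} (f : D ⟶ C) [Etale f] [IsSeparated f] [ConnectedSpace D]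
    {h h' : D ⟶ D} (hh : h ≫ f = h' ≫ f) {Z : Scheme.{u}} [Nonempty Z] (z : Z ⟶ D)
    (hz : z ≫ h = z ≫ h') : h = h' := by
  let p : D ⟶ pullback f f := pullback.lift h h' hh
  let ι := pullback.fst p (pullback.diagonal f)
  have hι : ι ≫ h = ι ≫ h' := by
    have h1 : p ≫ pullback.fst f f = h := pullback.lift_fst _ _ _
    have h2 : p ≫ pullback.snd f f = h' := pullback.lift_snd _ _ _
    rw [← h1, ← h2]
    simp only [ι, pullback.condition_assoc, pullback.diagonal_fst, pullback.diagonal_snd]
  haveI : IsOpenImmersion (pullback.diagonal f) := inferInstance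
  haveI : IsOpenImmersion ι :=
    MorphismProperty.pullback_fst _ _ (inferInstanceAs (IsOpenImmersion (pullback.diagonal f)))
  haveI : IsClosedImmersion ι :=
    MorphismProperty.pullback_fst _ _ (inferInstanceAs (IsClosedImmersion (pullback.diagonal f)))
  let l : Z ⟶ pullback p (pullback.diagonal f) := pullback.lift z (z ≫ h) (by
    apply pullback.hom_ext
    · simp [p]
    · simp only [p, assoc, pullback.lift_snd, pullback.diagonal_snd, Category.comp_id, hz])
  have hne : (Set.range ι).Nonempty := ⟨_, l (Classical.arbitrary Z), rfl⟩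
  have hclopen : IsClopen (Set.range ι) :=
    ⟨ι.isClosedEmbedding.isClosed_range, ι.isOpenEmbedding.isOpen_range⟩
  have hrange : Set.range ι = Set.univ := hclopen.eq_univ hne
  haveI : Surjective ι := ⟨Set.range_eq_univ.1 hrange⟩
  haveI : IsIso ι := isIso_of_isOpenImmersion_of_opensRange_eq_top _ (by
    ext x; simp [hrange])
  exact (cancel_epi ι).1 hι

theorem goodLifting_unique {C D : Scheme.{u}} (f : D ⟶ C) [Etale f] [IsSeparated f] [Surjective f]
    [ConnectedSpace D] (τ : C ≅ C) (σ σ' : D ≅ D) (hσ : σ.hom ≫ f = f ≫ τ.hom)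
    (hσ' : σ'.hom ≫ f = f ≫ τ.hom)
    (good : ∀ (Z : Scheme.{u}) (z : Z ⟶ D), z ≫ f ≫ τ.hom = z ≫ f → z ≫ σ.hom = z)
    (good' : ∀ (Z : Scheme.{u}) (z : Z ⟶ D), z ≫ f ≫ τ.hom = z ≫ f → z ≫ σ'.hom = z)
    (x : C) (hx : C.fromSpecResidueField x ≫ τ.hom = C.fromSpecResidueField x) : σ = σ' := by
  obtain ⟨y, rfl⟩ := f.surjective x
  have hy : D.fromSpecResidueField y ≫ f ≫ τ.hom = D.fromSpecResidueField y ≫ f := by
    have h1 := Scheme.Hom.SpecMap_residueFieldMap_fromSpecResidueField f y
    rw [← reassoc_of% h1, hx, h1]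
  refine Iso.ext (lifts_eq f (hσ.trans hσ'.symm) (D.fromSpecResidueField y) ?_)
  rw [good _ _ hy, good' _ _ hy]

theorem fixIdeal_sub_mem (A : Type u) [CommRing A] (t v : A) [ht : (Ideal.span ({t} : Set A)).IsPrime]
    (hv : v ∉ Ideal.span ({t} : Set A)) (σ : A ≃+* A) (hσ : σ (v * t) = v * t) (i : ℕ) (hi : 1 ≤ i)
    (hI : Ideal.span (Set.range fun r : A => σ r - r) ≤ Ideal.span ({t ^ i} : Set A)) :
    algebraMap A (Localization.AtPrime (Ideal.span ({t} : Set A))) (σ t - t) ∈
      Ideal.span ({algebraMap A (Localization.AtPrime (Ideal.span ({t} : Set A))) (t ^ (i + 1))} :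
        Set (Localization.AtPrime (Ideal.span ({t} : Set A)))) := by
  obtain ⟨a, ha⟩ := Ideal.mem_span_singleton'.1 (hI (Ideal.subset_span ⟨t, rfl⟩))
  obtain ⟨b, hb⟩ := Ideal.mem_span_singleton'.1 (hI (Ideal.subset_span ⟨v, rfl⟩))
  replace ha : a * t ^ i = σ t - t := ha
  replace hb : b * t ^ i = σ v - v := hb
  rw [← ha]
  by_cases hat : a ∈ Ideal.span ({t} : Set A)
  · obtain ⟨a', rfl⟩ := Ideal.mem_span_singleton'.1 hat
    rw [show a' * t * t ^ i = a' * t ^ (i + 1) by ring, map_mul]
    exact Ideal.mul_mem_left _ _ (Ideal.mem_span_singleton_self _)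
  · let c := v * a + t * b + t ^ i * a * b
    have h0 : c * t ^ i = 0 := by
      rw [map_mul, show σ v = v + b * t ^ i by rw [hb]; ring,
        show σ t = t + a * t ^ i by rw [ha]; ring] at hσ
      linear_combination hσ
    have hc : c ∉ Ideal.span ({t} : Set A) := fun h => by
      have h1 : v * a ∈ Ideal.span ({t} : Set A) := by
        have : v * a = c - t * (b + t ^ (i - 1) * a * b) := by
          obtain ⟨k, rfl⟩ : ∃ k, i = k + 1 := ⟨i - 1, by omega⟩
          simp only [c, Nat.add_sub_cancel]; ring
        rw [this]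
        exact sub_mem h (Ideal.mul_mem_right _ _ (Ideal.mem_span_singleton_self t))
      exact (ht.mem_or_mem h1).elim hv hat
    have hunit : IsUnit (algebraMap A (Localization.AtPrime (Ideal.span ({t} : Set A))) c) :=
      IsLocalization.map_units _ (⟨c, hc⟩ : (Ideal.span ({t} : Set A)).primeCompl)
    have : algebraMap A (Localization.AtPrime (Ideal.span ({t} : Set A))) (t ^ i) = 0 := by
      have h1 := congrArg (algebraMap A (Localization.AtPrime (Ideal.span ({t} : Set A)))) h0
      rw [map_mul, map_zero] at h1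
      exact hunit.mul_right_eq_zero.1 h1
    rw [map_mul, this, mul_zero]
    exact zero_mem _

end Groth.Agent.ArLefNode
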