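import Mathlib

/-!
Lengths of quotients by ideals generated by products, when one factor is regular modulo the other
generators.
-/

set_option autoImplicit false
set_option linter.style.haveILetI false
set_option linter.unusedSectionVars false

universe u

namespace Groth.Agent.ArLefNode

variable {A : Type u} [CommRing A]

/-- The length of `A ⧸ I`. -/
noncomputable def len (I : Ideal A) : ℕ∞ := Module.length A (A ⧸ I)

theorem len_top : len (⊤ : Ideal A) = 0 := by
  rw [len, Module.length_eq_zero_iff]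
  exact Submodule.Quotient.subsingleton_iff.2 rfl

theorem len_maximal (m : Ideal A) [m.IsMaximal] : len m = 1 := by
  rw [len, Module.length_eq_one_iff, isSimpleModule_iff_isCoatom]
  exact Ideal.IsMaximal.out

theorem len_mul_sup {a b : A} (I : Ideal A) (ha : IsSMulRegular (A ⧸ Ideal.span ({b} : Set A)) a) :
    len (Ideal.span {a} * I ⊔ Ideal.span {b}) =
      len (Ideal.span ({a, b} : Set A)) + len (I ⊔ Ideal.span {b}) := by
  set J := Ideal.span {a} * I ⊔ Ideal.span {b}
  have hle : J ≤ Ideal.span ({a, b} : Set A) := sup_le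
    (Ideal.mul_le_left.trans (Ideal.span_mono (Set.singleton_subset_iff.2 (Set.mem_insert _ _))))
    (Ideal.span_mono (by simp))
  have hf : I ⊔ Ideal.span {b} ≤ LinearMap.ker ((Submodule.mkQ J) ∘ₗ LinearMap.mulLeft A a) := by
    intro x hx
    obtain ⟨y, hy, z, hz, rfl⟩ := Submodule.mem_sup.1 hx
    rw [LinearMap.mem_ker, LinearMap.comp_apply, Submodule.mkQ_apply, Submodule.Quotient.mk_eq_zero,
      LinearMap.mulLeft_apply, mul_add]
    exact add_mem (Ideal.mem_sup_left (Ideal.mul_mem_mul (Ideal.mem_span_singleton_self a) hy))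
      (Ideal.mem_sup_right (Ideal.mul_mem_left _ a hz))
  let f := Submodule.liftQ (I ⊔ Ideal.span {b}) _ hf
  let g : (A ⧸ J) →ₗ[A] A ⧸ Ideal.span ({a, b} : Set A) := Submodule.factor hle
  have hinj : Function.Injective f := by
    rw [← LinearMap.ker_eq_bot, Submodule.ker_liftQ, ← LinearMap.le_ker_iff_map,
      Submodule.ker_mkQ]
    intro x hx
    rw [LinearMap.mem_ker, LinearMap.comp_apply, Submodule.mkQ_apply,
      Submodule.Quotient.mk_eq_zero] at hx
    obtain ⟨y, hy, z, hz, hyz⟩ := Submodule.mem_sup.1 hx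
    obtain ⟨i, hi, rfl⟩ := Ideal.mem_span_singleton_mul.1 hy
    rw [LinearMap.mulLeft_apply] at hyz
    have h0 : a • (Submodule.Quotient.mk (x - i) : A ⧸ Ideal.span ({b} : Set A)) =
        a • (0 : A ⧸ Ideal.span ({b} : Set A)) := by
      rw [smul_zero, ← Submodule.Quotient.mk_smul, Submodule.Quotient.mk_eq_zero, smul_eq_mul,
        mul_sub, ← hyz, add_sub_cancel_left]
      exact hz
    have := ha h0
    rw [Submodule.Quotient.mk_eq_zero] at this
    exact Submodule.mem_sup.2 ⟨i, hi, x - i, this, by ring⟩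
  have hsurj : Function.Surjective g := Submodule.factor_surjective hle
  have hex : Function.Exact f g := by
    rw [LinearMap.exact_iff]
    ext y
    obtain ⟨y, rfl⟩ := Submodule.mkQ_surjective J y
    rw [LinearMap.mem_ker, Submodule.mkQ_apply]
    change (Submodule.Quotient.mk y : A ⧸ Ideal.span ({a, b} : Set A)) = 0 ↔ _
    rw [Submodule.Quotient.mk_eq_zero, Submodule.range_liftQ]
    constructor
    · intro h
      obtain ⟨r, s, rfl⟩ := Ideal.mem_span_pair.1 h
      refine ⟨r, ?_⟩
      rw [LinearMap.comp_apply, Submodule.mkQ_apply, Submodule.Quotient.eq, LinearMap.mulLeft_apply]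
      exact Ideal.mem_sup_right (Ideal.mem_span_singleton'.2 ⟨-s, by ring⟩)
    · rintro ⟨r, hr⟩
      rw [LinearMap.comp_apply, Submodule.mkQ_apply, Submodule.Quotient.eq,
        LinearMap.mulLeft_apply] at hr
      have : y = a * r - (a * r - y) := by ring
      rw [this]
      exact sub_mem (Ideal.mul_mem_right _ _ (Ideal.subset_span (by simp))) (hle hr)
  rw [len, len, len, Module.length_eq_add_of_exact f g hinj hsurj hex, add_comm]

/-- The version used for two generators. -/
theorem len_mul {a a' b : A} (ha : IsSMulRegular (A ⧸ Ideal.span ({b} : Set A)) a) :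
    len (Ideal.span ({a * a', b} : Set A)) =
      len (Ideal.span ({a, b} : Set A)) + len (Ideal.span ({a', b} : Set A)) := by
  have h := len_mul_sup (Ideal.span {a'}) ha
  rwa [Ideal.span_singleton_mul_span_singleton, ← Ideal.span_insert, ← Ideal.span_insert] at h

theorem len_pow {a b : A} (ha : IsSMulRegular (A ⧸ Ideal.span ({b} : Set A)) a) (n : ℕ) :
    len (Ideal.span ({a ^ n, b} : Set A)) = (n : ℕ∞) * len (Ideal.span ({a, b} : Set A)) := by
  induction n with
  | zero =>
    rw [pow_zero, Nat.cast_zero, zero_mul, Ideal.span_insert, Ideal.span_singleton_one, top_sup_eq,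
      len_top]
  | succ n ih => rw [pow_succ', len_mul ha, ih, Nat.cast_succ, add_mul, one_mul, add_comm]

theorem isSMulRegular_of_forall_dvd {a b : A} (h : ∀ x, b ∣ a * x → b ∣ x) :
    IsSMulRegular (A ⧸ Ideal.span ({b} : Set A)) a := by
  intro x y hxy
  obtain ⟨x, rfl⟩ := Submodule.Quotient.mk_surjective _ x
  obtain ⟨y, rfl⟩ := Submodule.Quotient.mk_surjective _ y
  simp only [← Submodule.Quotient.mk_smul, Submodule.Quotient.eq, Ideal.mem_span_singleton,
    smul_eq_mul, ← mul_sub] at hxy ⊢
  exact h _ hxy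

/-- A prime not dividing `b` is regular modulo `(b)`. -/
theorem isSMulRegular_of_prime [IsDomain A] {a b : A} (ha : Prime a) (hb : ¬ a ∣ b) :
    IsSMulRegular (A ⧸ Ideal.span ({b} : Set A)) a := by
  refine isSMulRegular_of_forall_dvd fun x ⟨y, hy⟩ => ?_
  obtain ⟨y', rfl⟩ := (ha.dvd_or_dvd ⟨x, hy.symm⟩).resolve_left hb
  refine ⟨y', mul_left_cancel₀ ha.ne_zero ?_⟩
  rw [hy]; ring

/-- An element outside a prime principal ideal is regular modulo it. -/
theorem isSMulRegular_of_prime_right {a b : A} (hb : Prime b) (ha : ¬ b ∣ a) :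
    IsSMulRegular (A ⧸ Ideal.span ({b} : Set A)) a :=
  isSMulRegular_of_forall_dvd fun _ h => (hb.dvd_or_dvd h).resolve_left ha

theorem span_pair_congr_left {a b c : A} {u : A} (hu : IsUnit u) (h : u * a = b + c) {y : A}
    (hc : y ∣ c) : Ideal.span ({a, y} : Set A) = Ideal.span ({b, y} : Set A) := by
  obtain ⟨z, rfl⟩ := hc
  obtain ⟨v, rfl⟩ := hu
  apply le_antisymm <;> refine Ideal.span_le.2 (Set.insert_subset_iff.2 ⟨?_, Set.singleton_subset_iff.2
    (Ideal.subset_span (by simp))⟩)
  · refine Ideal.mem_span_pair.2 ⟨(↑v⁻¹ : A), (↑v⁻¹ : A) * z, ?_⟩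
    rw [← Units.inv_mul_cancel_left v a, h]; ring
  · exact Ideal.mem_span_pair.2 ⟨(v : A), -z, by rw [h]; ring⟩

/-- Transport of the length along a surjection. -/
theorem len_comap {B : Type u} [CommRing B] (f : A →+* B) (hf : Function.Surjective f) (J : Ideal B) :
    len (J.comap f) = len J := by
  letI := f.toAlgebra
  rw [len, len, ← Module.length_eq_of_surjective (R := B) (S := A) (M := B ⧸ J) hf]
  exact (LinearEquiv.ofBijective
    (Submodule.liftQ (J.comap f) (((Submodule.mkQ J).restrictScalars A) ∘ₗ Algebra.linearMap A B)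
      (fun x hx => (Submodule.Quotient.mk_eq_zero J).2 hx))
    ⟨by
      rw [← LinearMap.ker_eq_bot, eq_bot_iff]
      intro q hq
      obtain ⟨x, rfl⟩ := Submodule.mkQ_surjective (J.comap f) q
      exact (Submodule.Quotient.mk_eq_zero _).2 ((Submodule.Quotient.mk_eq_zero J).1 hq :),
    fun y => by
      obtain ⟨b, rfl⟩ := Submodule.mkQ_surjective J y
      obtain ⟨x, rfl⟩ := hf b
      exact ⟨Submodule.Quotient.mk x, rfl⟩⟩).length_eq

end Groth.Agent.ArLefNode
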