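import Groth.Agent.ArLefNode.Ring

/-!
Fixed-point ideals of automorphisms of the formal node and their lengths.
-/

set_option autoImplicit false
set_option linter.style.haveILetI false
set_option linter.unusedSectionVars false
set_option backward.isDefEq.respectTransparency false

universe u

open ArLef IsLocalRing

namespace Groth.Agent.ArLefNode

variable {B : Type u} [CommRing B] [IsLocalRing B] [IsNoetherianRing B] (a : B)
  (hmax : maximalIdeal B = Ideal.span {a})

local notation "N" => ArLef.NodeAlg B a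
local notation "tN" => (ArLef.NodeAlg.t a : ArLef.NodeAlg B a)
local notation "eN" => (ArLef.NodeAlg.e a : ArLef.NodeAlg B a)

include hmax

theorem fixIdeal_eq_span_pair {σ : N ≃+* N} {x y : N}
    (hx : x ∈ fixIdeal σ) (hy : y ∈ fixIdeal σ)
    (hB : ∀ b : B, σ (algebraMap B N b) - algebraMap B N b ∈ Ideal.span ({x, y} : Set N))
    (ht : σ tN - tN ∈ Ideal.span ({x, y} : Set N)) (he : σ eN - eN ∈ Ideal.span ({x, y} : Set N)) :
    fixIdeal σ = Ideal.span ({x, y} : Set N) :=
  le_antisymm (fixIdeal_le a hmax σ _ hB ht he)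
    (Ideal.span_le.2 (Set.insert_subset_iff.2 ⟨hx, Set.singleton_subset_iff.2 hy⟩))

theorem mem_fixIdeal (σ : N ≃+* N) (r : N) : σ r - r ∈ fixIdeal σ :=
  Ideal.subset_span ⟨r, rfl⟩

section Domain

variable [IsDomain B] (ha : a ≠ 0)
include ha

theorem eq_mul_of_stabilizes (σ : N ≃+* N) {α β : N} (ht : σ tN = α * tN) (he : σ eN = β * eN)
    {c : B} (hc : σ (algebraMap B N a) = algebraMap B N a * algebraMap B N c) :
    α * β = algebraMap B N c := by
  haveI := isDomain_node a hmax ha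
  rw [← t_mul_e, map_mul, ht, he] at hc
  exact mul_left_cancel₀ (mul_ne_zero (te_ne_zero a hmax ha).1 (te_ne_zero a hmax ha).2)
    (by rw [← hc]; ring)

theorem stabilizes_or_switches (σ : N ≃+* N)
    (hσ : Associated (σ (algebraMap B N a)) (algebraMap B N a)) :
    (∃ α β : Nˣ, σ tN = (α : N) * tN ∧ σ eN = (β : N) * eN) ∨
      (∃ α β : Nˣ, σ tN = (α : N) * eN ∧ σ eN = (β : N) * tN) := by
  haveI := isDomain_node a hmax ha
  have hpt := prime_t a hmax ha
  have hpe := prime_e a hmax ha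
  have hst : Prime (σ tN) := (MulEquiv.prime_iff σ.toMulEquiv).2 hpt
  have hdvd : σ tN ∣ tN * eN := by
    rw [t_mul_e]
    refine dvd_trans ?_ hσ.dvd
    rw [← t_mul_e, map_mul]
    exact dvd_mul_right _ _
  rw [← t_mul_e, map_mul] at hσ
  rcases hst.dvd_or_dvd hdvd with h | h
  · have h1 : Associated (σ tN) tN := hst.associated_of_dvd hpt h
    have h2 : Associated (σ eN) eN := hσ.of_mul_left h1 hst.ne_zero
    obtain ⟨u, hu⟩ := h1.symm
    obtain ⟨v, hv⟩ := h2.symm
    exact Or.inl ⟨u, v, by rw [← hu, mul_comm], by rw [← hv, mul_comm]⟩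
  · have h1 : Associated (σ tN) eN := hst.associated_of_dvd hpe h
    rw [mul_comm tN eN] at hσ
    have h2 : Associated (σ eN) tN := hσ.of_mul_left h1 hst.ne_zero
    obtain ⟨u, hu⟩ := h1.symm
    obtain ⟨v, hv⟩ := h2.symm
    exact Or.inr ⟨u, v, by rw [← hu, mul_comm], by rw [← hv, mul_comm]⟩

theorem fixIdeal_stabilizes (σ : N ≃ₐ[B] N) (hσ : σ ≠ AlgEquiv.refl)
    (ht : Associated (σ tN) tN) (he : Associated (σ eN) eN) :
    ∃ g : N, g ≠ 0 ∧ fixIdeal σ = Ideal.span {g} * Ideal.span ({tN, eN} : Set N) := by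
  haveI := isDomain_node a hmax ha
  obtain ⟨u, hu⟩ := ht.symm
  obtain ⟨v, hv⟩ := he.symm
  have huv : (u : N) * v = 1 := by
    have := eq_mul_of_stabilizes a hmax ha σ.toRingEquiv (α := (u : N)) (β := (v : N))
      (hu.symm.trans (mul_comm _ _)) (hv.symm.trans (mul_comm _ _)) (c := 1)
      (by rw [map_one, mul_one]; exact σ.commutes a)
    rwa [map_one] at this
  have hprod : Ideal.span {(u : N) - 1} * Ideal.span ({tN, eN} : Set N) =
      Ideal.span ({((u : N) - 1) * tN, ((u : N) - 1) * eN} : Set N) := by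
    rw [Ideal.span_insert, Ideal.mul_sup, Ideal.span_singleton_mul_span_singleton,
      Ideal.span_singleton_mul_span_singleton, ← Ideal.span_insert]
  have hI : fixIdeal σ = Ideal.span ({((u : N) - 1) * tN, ((u : N) - 1) * eN} : Set N) := by
    have h1 : σ tN - tN = ((u : N) - 1) * tN := by rw [← hu]; ring
    have h2 : σ eN - eN = -(v : N) * (((u : N) - 1) * eN) := by
      rw [← hv]; linear_combination (eN) * huv
    refine fixIdeal_eq_span_pair a hmax (σ := σ.toRingEquiv) ?_ ?_ (fun b => ?_) ?_ ?_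
    · exact h1 ▸ mem_fixIdeal a hmax σ.toRingEquiv tN
    · have : σ eN - eN ∈ fixIdeal σ := mem_fixIdeal a hmax σ.toRingEquiv eN
      rw [h2] at this
      exact (Ideal.unit_mul_mem_iff_mem _ (Units.isUnit v).neg).1 this
    · change σ (algebraMap B N b) - _ ∈ _
      rw [σ.commutes, sub_self]
      exact zero_mem _
    · change σ tN - tN ∈ _
      rw [h1]; exact Ideal.subset_span (by simp)
    · change σ eN - eN ∈ _
      rw [h2]; exact Ideal.mul_mem_left _ _ (Ideal.subset_span (by simp))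
  refine ⟨(u : N) - 1, fun h0 => hσ (AlgEquiv.ext fun x => ?_), hI.trans hprod.symm⟩
  have hx : σ x - x ∈ fixIdeal σ := mem_fixIdeal a hmax σ.toRingEquiv x
  rw [hI, h0, zero_mul, zero_mul] at hx
  simpa [sub_eq_zero] using hx

theorem not_dvd_sub (α : N) :
    ¬ eN ∣ tN - α * eN := fun h => (te_notMem a hmax).2 (Ideal.mem_span_singleton.2
  (by simpa using dvd_add h (dvd_mul_left eN α)))

theorem fixIdeal_switches_alg (σ : N ≃ₐ[B] N) (ht : Associated (σ tN) eN)
    (he : Associated (σ eN) tN) :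
    ∃ h : N, fixIdeal σ = Ideal.span {h} ∧ h ∉ (Ideal.span ({tN, eN} : Set N)) ^ 2 ∧
      IsSMulRegular (N ⧸ Ideal.span ({h} : Set N)) a := by
  haveI := isDomain_node a hmax ha
  obtain ⟨u, hu⟩ := ht.symm
  obtain ⟨v, hv⟩ := he.symm
  have huv : (u : N) * v = 1 := by
    have h1 : σ (algebraMap B N a) = algebraMap B N a := σ.commutes a
    rw [← t_mul_e, map_mul, ← hu, ← hv] at h1
    exact mul_left_cancel₀ (mul_ne_zero (te_ne_zero a hmax ha).1 (te_ne_zero a hmax ha).2)
      (by linear_combination h1)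
  let h := tN - (u : N) * eN
  have h1 : σ tN - tN = -h := by rw [← hu]; simp only [h]; ring
  have h2 : σ eN - eN = (v : N) * h := by
    rw [← hv]; simp only [h]; linear_combination (eN) * huv
  refine ⟨h, le_antisymm ?_ ?_, fun hm => ?_, ?_⟩
  · refine fixIdeal_le a hmax σ.toRingEquiv _ (fun b => ?_) ?_ ?_
    · change σ (algebraMap B N b) - _ ∈ _
      rw [σ.commutes, sub_self]
      exact zero_mem _
    · change σ tN - tN ∈ _
      rw [h1]; exact neg_mem (Ideal.mem_span_singleton_self h)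
    · change σ eN - eN ∈ _
      rw [h2]; exact Ideal.mul_mem_left _ _ (Ideal.mem_span_singleton_self h)
  · rw [Ideal.span_le, Set.singleton_subset_iff]
    have : σ tN - tN ∈ fixIdeal σ := mem_fixIdeal a hmax σ.toRingEquiv tN
    rw [h1] at this
    exact neg_mem_iff.1 this
  · have hb := Ideal.mem_map_of_mem (branchN a hmax 1) hm
    rw [Ideal.map_pow, Ideal.map_span, Set.image_pair] at hb
    have ht0 : branchN a hmax 1 tN = 0 := branch_X_ne (by decide)
    have he0 : branchN a hmax 1 eN = PowerSeries.X := branch_X_self 1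
    rw [ht0, he0, Ideal.span_insert_zero, Ideal.span_singleton_pow, Ideal.mem_span_singleton] at hb
    simp only [h, map_sub, map_mul, ht0, he0, zero_sub, dvd_neg, pow_two] at hb
    have := (mul_dvd_mul_iff_right PowerSeries.X_ne_zero).1 hb
    exact PowerSeries.X_prime.not_unit (isUnit_of_dvd_unit this (u.isUnit.map _))
  · have hreg : IsSMulRegular (N ⧸ Ideal.span ({h} : Set N)) eN :=
      isSMulRegular_of_prime (prime_e a hmax ha) (not_dvd_sub a hmax ha _)
    have h3 : IsSMulRegular (N ⧸ Ideal.span ({h} : Set N)) ((u : N) * (eN * eN)) :=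
      (IsSMulRegular.of_smul_eq_one (S := N) (a := (↑u⁻¹ : N)) (by simp)).mul (hreg.mul hreg)
    intro x y hxy
    refine h3 ?_
    have key : ∀ z : N ⧸ Ideal.span ({h} : Set N), ((u : N) * (eN * eN)) • z = a • z := by
      intro z
      obtain ⟨z, rfl⟩ := Submodule.Quotient.mk_surjective _ z
      rw [← Submodule.Quotient.mk_smul, ← Submodule.Quotient.mk_smul, Submodule.Quotient.eq,
        smul_eq_mul, Algebra.smul_def a z, ← t_mul_e]
      exact Ideal.mem_span_singleton'.2 ⟨-(eN * z), by simp only [h]; ring⟩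
    simp only [key]
    exact hxy

theorem fixIdeal_switches (j : ℕ) (hj : 1 ≤ j) (γ : B) (hγ : IsUnit γ) (σ : N ≃+* N)
    (hσB : ∀ b : B, σ (algebraMap B N b) - algebraMap B N b ∈
      Ideal.span ({algebraMap B N (a ^ j)} : Set N))
    (hσπ : σ (algebraMap B N a) = algebraMap B N (a + γ * a ^ j))
    (ht : Associated (σ tN) eN) (he : Associated (σ eN) tN) :
    (∀ g : N, fixIdeal σ ≤ Ideal.span ({g} : Set N) → IsUnit g) ∧
      Module.length N (N ⧸ fixIdeal σ) = ((2 * j - 1 : ℕ) : ℕ∞) := by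
  haveI := isDomain_node a hmax ha
  obtain ⟨m, rfl⟩ : ∃ m, j = m + 1 := ⟨j - 1, by omega⟩
  obtain ⟨u, hu⟩ := ht.symm
  obtain ⟨v, hv⟩ := he.symm
  have hpi : algebraMap B N (a ^ (m + 1)) = tN ^ (m + 1) * eN ^ (m + 1) := by
    rw [map_pow, ← t_mul_e, mul_pow]
  have huv : (u : N) * v = 1 + algebraMap B N γ * (tN ^ m * eN ^ m) := by
    have h1 := hσπ
    rw [map_add, map_mul, hpi, ← t_mul_e, map_mul, ← hu, ← hv] at h1
    exact mul_left_cancel₀ (mul_ne_zero (te_ne_zero a hmax ha).1 (te_ne_zero a hmax ha).2)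
      (by linear_combination h1)
  let h := tN - (u : N) * eN
  have h1 : σ tN - tN = -h := by rw [← hu]; simp only [h]; ring
  have h2 : σ eN - eN = (v : N) * h + algebraMap B N γ * (tN ^ m * eN ^ m) * eN := by
    rw [← hv]; simp only [h]; linear_combination eN * huv
  have hpow : ∀ n : ℕ, tN ^ n - ((u : N) * eN) ^ n ∈ Ideal.span ({h} : Set N) := fun n =>
    Ideal.mem_span_singleton.2 (sub_dvd_pow_sub_pow _ _ n)
  have hle : Ideal.span ({h} : Set N) ≤ Ideal.span ({eN ^ (2 * m + 1), h} : Set N) :=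
    Ideal.span_mono (by simp)
  have hI : fixIdeal σ = Ideal.span ({eN ^ (2 * m + 1), h} : Set N) := by
    have hh : h ∈ fixIdeal σ := by
      have : σ tN - tN ∈ fixIdeal σ := mem_fixIdeal a hmax σ tN
      rw [h1] at this
      exact neg_mem_iff.1 this
    have hsplit : ∀ n, tN ^ n * eN ^ (m + 1) = (tN ^ n - ((u : N) * eN) ^ n) * eN ^ (m + 1) +
        (u : N) ^ n * eN ^ (n + (m + 1)) := by intro n; ring
    have hin : ∀ n, m ≤ n → tN ^ n * eN ^ (m + 1) ∈ Ideal.span ({eN ^ (2 * m + 1), h} : Set N) := by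
      intro n hn
      rw [hsplit n]
      refine add_mem (hle (Ideal.mul_mem_right _ _ (hpow n))) (Ideal.mul_mem_left _ _ ?_)
      rw [show eN ^ (n + (m + 1)) = eN ^ (n - m) * eN ^ (2 * m + 1) by
        rw [← pow_add]; congr 1; omega]
      exact Ideal.mul_mem_left _ _ (Ideal.subset_span (Set.mem_insert _ _))
    refine fixIdeal_eq_span_pair a hmax ?_ hh (fun b => ?_) ?_ ?_
    · have h3 : tN ^ m * eN ^ (m + 1) ∈ fixIdeal σ := by
        have := sub_mem (mem_fixIdeal a hmax σ eN) (Ideal.mul_mem_left _ (v : N) hh)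
        rw [h2, add_sub_cancel_left] at this
        rw [pow_succ, ← mul_assoc]
        rwa [mul_assoc (algebraMap B N γ), Ideal.unit_mul_mem_iff_mem _ (hγ.map _)] at this
      rw [hsplit m] at h3
      have := sub_mem h3 ((Ideal.span_le.2 (Set.singleton_subset_iff.2 hh) :
        Ideal.span ({h} : Set N) ≤ fixIdeal σ) (Ideal.mul_mem_right (eN ^ (m + 1)) _ (hpow m)))
      rw [add_sub_cancel_left, Ideal.unit_mul_mem_iff_mem _ (u.isUnit.pow m)] at this
      rwa [show 2 * m + 1 = m + (m + 1) by ring]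
    · refine (Ideal.span_le.2 (Set.singleton_subset_iff.2 ?_) :
        Ideal.span ({algebraMap B N (a ^ (m + 1))} : Set N) ≤ _) (hσB b)
      rw [hpi]
      exact hin (m + 1) (by omega)
    · rw [h1]; exact neg_mem (Ideal.subset_span (by simp))
    · rw [h2]
      refine add_mem (Ideal.mul_mem_left _ _ (Ideal.subset_span (by simp))) ?_
      rw [show algebraMap B N γ * (tN ^ m * eN ^ m) * eN =
        algebraMap B N γ * (tN ^ m * eN ^ (m + 1)) by ring]
      exact Ideal.mul_mem_left _ _ (hin m le_rfl)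
  rw [hI]
  refine ⟨fun g hg => ?_, ?_⟩
  · rw [Ideal.span_le, Set.insert_subset_iff, Set.singleton_subset_iff, SetLike.mem_coe,
      SetLike.mem_coe, Ideal.mem_span_singleton, Ideal.mem_span_singleton] at hg
    obtain ⟨k, -, hk⟩ := (dvd_prime_pow (prime_e a hmax ha) _).1 hg.1
    rcases Nat.eq_zero_or_pos k with rfl | hk0
    · rw [pow_zero] at hk
      exact hk.symm.isUnit isUnit_one
    · exact absurd ((dvd_pow_self eN (by omega)).trans (hk.dvd_iff_dvd_left.1 hg.2))
        (not_dvd_sub a hmax ha _)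
  · change len _ = _
    rw [len_pow (isSMulRegular_of_prime (prime_e a hmax ha) (not_dvd_sub a hmax ha _)) (2 * m + 1)]
    have : Ideal.span ({eN, h} : Set N) = Ideal.span ({tN, eN} : Set N) := by
      rw [Ideal.span_pair_comm (x := eN)]
      apply le_antisymm <;> refine Ideal.span_le.2 (Set.insert_subset_iff.2 ⟨?_,
        Set.singleton_subset_iff.2 (Ideal.subset_span (by simp))⟩)
      · exact Ideal.mem_span_pair.2 ⟨1, -(u : N), by simp only [h]; ring⟩
      · exact Ideal.mem_span_pair.2 ⟨1, (u : N), by simp only [h]; ring⟩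
    rw [this, len_te a hmax, mul_one]
    congr 1

/-- The length of the residual scheme when the branches are stabilised. -/
theorem len_residual {p q : ℕ} (hp : 1 ≤ p) (hq : 1 ≤ q) {a' b' β : N} (hβ : IsUnit β)
    {g : N} (hg : IsUnit g) (hrel : β * a' + b' = g * (tN ^ (p - 1) * eN ^ (q - 1)))
    (hea : ¬ eN ∣ a') (htb : ¬ tN ∣ b') :
    len (Ideal.span ({a' * tN, b' * eN} : Set N)) =
      1 + (p : ℕ∞) * len (Ideal.span ({tN, b'} : Set N)) +
        (q : ℕ∞) * len (Ideal.span ({eN, a'} : Set N)) := by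
  haveI := isDomain_node a hmax ha
  have hpt := prime_t a hmax ha
  have hpe := prime_e a hmax ha
  have hte : ¬ tN ∣ eN := fun h => (te_notMem a hmax).1 (Ideal.mem_span_singleton.2 h)
  have het : ¬ eN ∣ tN := fun h => (te_notMem a hmax).2 (Ideal.mem_span_singleton.2 h)
  have hA : len (Ideal.span ({a' * tN, b' * eN} : Set N)) =
      len (Ideal.span ({tN, b' * eN} : Set N)) + len (Ideal.span ({a', b' * eN} : Set N)) := by
    rw [mul_comm a' tN]
    exact len_mul (isSMulRegular_of_prime hpt fun h => (hpt.dvd_or_dvd h).elim htb hte)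
  have hB' : len (Ideal.span ({tN, b' * eN} : Set N)) =
      1 + len (Ideal.span ({tN, b'} : Set N)) := by
    rw [Ideal.span_pair_comm, mul_comm b' eN, len_mul (isSMulRegular_of_prime_right hpt hte),
      Ideal.span_pair_comm (x := eN), Ideal.span_pair_comm (x := b'), len_te a hmax]
  have hC : len (Ideal.span ({a', b' * eN} : Set N)) =
      len (Ideal.span ({eN, a'} : Set N)) + len (Ideal.span ({a', b'} : Set N)) := by
    rw [Ideal.span_pair_comm, mul_comm b' eN, len_mul (isSMulRegular_of_prime hpe hea),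
      Ideal.span_pair_comm (x := b')]
  have hD : Ideal.span ({a', b'} : Set N) =
      Ideal.span ({tN ^ (p - 1) * eN ^ (q - 1), b'} : Set N) := by
    rw [span_pair_congr_left hβ (b := g * (tN ^ (p - 1) * eN ^ (q - 1))) (c := -b')
      (by rw [← hrel]; ring) ⟨-1, by ring⟩]
    exact (span_pair_congr_left hg (b := g * (tN ^ (p - 1) * eN ^ (q - 1))) (c := 0)
      (by ring) (dvd_zero _)).symm
  have hE : len (Ideal.span ({tN ^ (p - 1) * eN ^ (q - 1), b'} : Set N)) =
      ((p - 1 : ℕ) : ℕ∞) * len (Ideal.span ({tN, b'} : Set N)) +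
        ((q - 1 : ℕ) : ℕ∞) * len (Ideal.span ({eN, a'} : Set N)) := by
    rw [len_mul ((isSMulRegular_of_prime hpt htb).pow _),
      len_pow (isSMulRegular_of_prime hpt htb)]
    congr 1
    rcases Nat.eq_zero_or_pos (q - 1) with h0 | h0
    · rw [h0, pow_zero, Nat.cast_zero, zero_mul, Ideal.span_insert, Ideal.span_singleton_one,
        top_sup_eq, len_top]
    · have hc : eN ∣ g * (tN ^ (p - 1) * eN ^ (q - 1)) :=
        dvd_mul_of_dvd_right (dvd_mul_of_dvd_right (dvd_pow_self _ (by omega)) _) _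
      have heb : ¬ eN ∣ b' := fun h => hea <| by
        have h2 : eN ∣ β * a' := by
          rw [eq_sub_of_add_eq hrel]
          exact dvd_sub hc h
        exact (hpe.dvd_or_dvd h2).resolve_left fun h3 =>
          hpe.not_unit (isUnit_of_dvd_unit h3 hβ)
      rw [len_pow (isSMulRegular_of_prime hpe heb), Ideal.span_pair_comm (x := eN),
        Ideal.span_pair_comm (x := eN)]
      congr 2
      exact span_pair_congr_left hβ.neg (b := b') (c := -(g * (tN ^ (p - 1) * eN ^ (q - 1))))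
        (by linear_combination -hrel) hc.neg_right |>.symm
  rw [hA, hB', hC, hD, hE]
  obtain ⟨p', rfl⟩ : ∃ p', p = p' + 1 := ⟨p - 1, by omega⟩
  obtain ⟨q', rfl⟩ : ∃ q', q = q' + 1 := ⟨q - 1, by omega⟩
  simp only [Nat.add_sub_cancel, Nat.cast_succ, add_mul, one_mul]
  abel

/-- The fixed-point ideal when the branches are stabilised. -/
theorem fixIdeal_stab (j : ℕ) (σ : N ≃+* N) (γ : B)
    (hσB : ∀ b : B, σ (algebraMap B N b) - algebraMap B N b ∈
      Ideal.span ({algebraMap B N (a ^ j)} : Set N))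
    (hσπ : σ (algebraMap B N a) = algebraMap B N (a + γ * a ^ j)) (hγ : IsUnit γ)
    {α β : N} (ht : σ tN = α * tN) (he : σ eN = β * eN) :
    fixIdeal σ = Ideal.span ({algebraMap B N (a ^ j), (α - 1) * tN, (β - 1) * eN} : Set N) := by
  have h1 : σ tN - tN = (α - 1) * tN := by rw [ht]; ring
  have h2 : σ eN - eN = (β - 1) * eN := by rw [he]; ring
  apply le_antisymm
  · refine fixIdeal_le a hmax σ _ (fun b => (Ideal.span_mono (by simp)) (hσB b)) ?_ ?_
    · rw [h1]; exact Ideal.subset_span (by simp)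
    · rw [h2]; exact Ideal.subset_span (by simp)
  · rw [Ideal.span_le]
    rintro x (rfl | rfl | rfl)
    · have h := mem_fixIdeal a hmax σ (algebraMap B N a)
      rw [hσπ, map_add, add_sub_cancel_left, map_mul,
        Ideal.unit_mul_mem_iff_mem _ (hγ.map _)] at h
      exact h
    · rw [← h1]; exact mem_fixIdeal a hmax σ tN
    · rw [← h2]; exact mem_fixIdeal a hmax σ eN

theorem rel_stab (j : ℕ) (hj : 1 ≤ j) (σ : N ≃+* N) (γ : B)
    (hσπ : σ (algebraMap B N a) = algebraMap B N (a + γ * a ^ j))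
    {α β : N} (ht : σ tN = α * tN) (he : σ eN = β * eN) :
    α * β - 1 = algebraMap B N γ * (tN ^ (j - 1) * eN ^ (j - 1)) := by
  haveI := isDomain_node a hmax ha
  obtain ⟨m, rfl⟩ : ∃ m, j = m + 1 := ⟨j - 1, by omega⟩
  have h := eq_mul_of_stabilizes a hmax ha σ ht he (c := 1 + γ * a ^ m)
    (by rw [hσπ, ← map_mul]; congr 1; ring)
  rw [h, map_add, map_one, map_mul, map_pow, ← t_mul_e, mul_pow, add_sub_cancel_left,
    Nat.add_sub_cancel]

theorem colon_eq {D : N} (hD : D ≠ 0) {J : Ideal N} :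
    (Ideal.span {D} * J).colon ({D} : Set N) = J := by
  haveI := isDomain_node a hmax ha
  ext x
  rw [Submodule.mem_colon_singleton, smul_eq_mul, Ideal.mem_span_singleton_mul]
  exact ⟨fun ⟨z, hz, h⟩ => by rwa [← mul_right_cancel₀ hD ((mul_comm z D).trans h)],
    fun hx => ⟨x, hx, mul_comm _ _⟩⟩

theorem colon_residual (j i₁ i₂ : ℕ) (h1j : i₁ < j) (h2j : i₂ < j) (γ : B) (hγ : IsUnit γ)
    (σ : N ≃+* N) (hσB : ∀ c : B, σ (algebraMap B N c) - algebraMap B N c ∈
      Ideal.span ({algebraMap B N (a ^ j)} : Set N))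
    (hσπ : σ (algebraMap B N a) = algebraMap B N (a + γ * a ^ j))
    (α β : Nˣ) (ht : σ tN = (α : N) * tN) (he : σ eN = (β : N) * eN) (a' b' : N)
    (ha' : (α : N) - 1 = tN ^ i₁ * eN ^ i₂ * a') (hb' : (β : N) - 1 = tN ^ i₁ * eN ^ i₂ * b')
    (hea : ¬ eN ∣ a') (htb : ¬ tN ∣ b') :
    fixIdeal σ = Ideal.span {tN ^ i₁ * eN ^ i₂} * Ideal.span ({a' * tN, b' * eN} : Set N) ∧
    len (Ideal.span ({a' * tN, b' * eN} : Set N)) =
      1 + ((j - i₁ : ℕ) : ℕ∞) * len (Ideal.span ({tN, b'} : Set N)) +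
        ((j - i₂ : ℕ) : ℕ∞) * len (Ideal.span ({eN, a'} : Set N)) := by
  haveI := isDomain_node a hmax ha
  obtain ⟨p, rfl⟩ : ∃ p, j = p + 1 + i₁ := ⟨j - 1 - i₁, by omega⟩
  obtain ⟨q, hq⟩ : ∃ q, p + 1 + i₁ = q + 1 + i₂ := ⟨p + i₁ - i₂, by omega⟩
  have hg : IsUnit (algebraMap B N γ) := hγ.map _
  have hrel0 := rel_stab a hmax ha (p + 1 + i₁) (by omega) σ γ hσπ ht he
  have hrel : (β : N) * a' + b' = algebraMap B N γ * (tN ^ p * eN ^ q) := by
    refine mul_left_cancel₀ (mul_ne_zero (pow_ne_zero i₁ (te_ne_zero a hmax ha).1)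
      (pow_ne_zero i₂ (te_ne_zero a hmax ha).2)) ?_
    rw [show (p + 1 + i₁ - 1) = i₁ + p by omega, pow_add] at hrel0
    rw [show i₁ + p = i₂ + q by omega, pow_add] at hrel0
    linear_combination hrel0 - (β : N) * ha' - hb'
  have hpi : algebraMap B N (a ^ (p + 1 + i₁)) =
      tN ^ i₁ * eN ^ i₂ * (tN ^ (p + 1) * eN ^ (q + 1)) := by
    rw [map_pow, ← t_mul_e, mul_pow]
    conv_lhs => arg 2; rw [hq]
    ring
  refine ⟨?_, ?_⟩
  · rw [fixIdeal_stab a hmax ha _ σ γ hσB hσπ hγ ht he, ha', hb', hpi]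
    apply le_antisymm
    · rw [Ideal.span_le]
      have h0 : tN ^ (p + 1) * eN ^ (q + 1) ∈ Ideal.span ({a' * tN, b' * eN} : Set N) := by
        refine (Ideal.unit_mul_mem_iff_mem _ hg).1 (Ideal.mem_span_pair.2 ⟨(β : N) * eN, tN, ?_⟩)
        linear_combination (tN * eN) * hrel
      rintro x (rfl | rfl | rfl)
      · exact Ideal.mul_mem_mul (Ideal.mem_span_singleton_self _) h0
      · rw [mul_assoc]
        exact Ideal.mul_mem_mul (Ideal.mem_span_singleton_self _) (Ideal.subset_span (by simp))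
      · rw [mul_assoc]
        exact Ideal.mul_mem_mul (Ideal.mem_span_singleton_self _) (Ideal.subset_span (by simp))
    · rw [Ideal.span_insert (x := a' * tN), Ideal.mul_sup, Ideal.span_singleton_mul_span_singleton,
        Ideal.span_singleton_mul_span_singleton, sup_le_iff, Ideal.span_le, Ideal.span_le,
        Set.singleton_subset_iff, Set.singleton_subset_iff, ← mul_assoc, ← mul_assoc]
      exact ⟨Ideal.subset_span (by simp [mul_assoc]), Ideal.subset_span (by simp [mul_assoc])⟩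
  · rw [show p + 1 + i₁ - i₁ = p + 1 by omega, show p + 1 + i₁ - i₂ = q + 1 by omega]
    exact len_residual a hmax ha (p := p + 1) (q := q + 1) (by omega) (by omega) β.isUnit hg
      (by simpa using hrel) hea htb

theorem colon_residual_max (j i₁ : ℕ) (h1 : i₁ < j) (γ : B) (hγ : IsUnit γ)
    (σ : N ≃+* N) (hσB : ∀ c : B, σ (algebraMap B N c) - algebraMap B N c ∈
      Ideal.span ({algebraMap B N (a ^ j)} : Set N))
    (hσπ : σ (algebraMap B N a) = algebraMap B N (a + γ * a ^ j))
    (α β : Nˣ) (ht : σ tN = (α : N) * tN) (he : σ eN = (β : N) * eN) (a' b' : N)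
    (ha' : (α : N) - 1 = tN ^ i₁ * eN ^ j * a') (hb' : (β : N) - 1 = tN ^ i₁ * eN ^ (j - 1) * b')
    (htb : ¬ tN ∣ b') :
    len ((fixIdeal σ).colon ({tN ^ i₁ * eN ^ j} : Set N)) + ((j - 1 - i₁ : ℕ) : ℕ∞) =
      ((j - i₁ : ℕ) : ℕ∞) * len (Ideal.span ({tN, b'} : Set N)) := by
  haveI := isDomain_node a hmax ha
  obtain ⟨p, rfl⟩ : ∃ p, j = i₁ + p + 1 := ⟨j - 1 - i₁, by omega⟩
  have hg : IsUnit (algebraMap B N γ) := hγ.map _
  have hpt := prime_t a hmax ha
  have hpe := prime_e a hmax ha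
  have hte : ¬ tN ∣ eN := fun h => (te_notMem a hmax).1 (Ideal.mem_span_singleton.2 h)
  have het : ¬ eN ∣ tN := fun h => (te_notMem a hmax).2 (Ideal.mem_span_singleton.2 h)
  have hrel0 := rel_stab a hmax ha (i₁ + p + 1) (by omega) σ γ hσπ ht he
  rw [Nat.add_sub_cancel] at hrel0 hb'
  have hrel : (β : N) * a' * eN + b' = algebraMap B N γ * tN ^ p := by
    refine mul_left_cancel₀ (mul_ne_zero (pow_ne_zero i₁ (te_ne_zero a hmax ha).1)
      (pow_ne_zero (i₁ + p) (te_ne_zero a hmax ha).2)) ?_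
    linear_combination hrel0 - (β : N) * ha' - hb'
  have hD : tN ^ i₁ * eN ^ (i₁ + p + 1) ≠ 0 :=
    mul_ne_zero (pow_ne_zero _ (te_ne_zero a hmax ha).1) (pow_ne_zero _ (te_ne_zero a hmax ha).2)
  have hI : fixIdeal σ =
      Ideal.span {tN ^ i₁ * eN ^ (i₁ + p + 1)} * Ideal.span ({tN * a', b'} : Set N) := by
    rw [fixIdeal_stab a hmax ha _ σ γ hσB hσπ hγ ht he, ha', hb',
      show algebraMap B N (a ^ (i₁ + p + 1)) =
        tN ^ i₁ * eN ^ (i₁ + p + 1) * tN ^ (p + 1) by rw [map_pow, ← t_mul_e]; ring,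
      show tN ^ i₁ * eN ^ (i₁ + p) * b' * eN = tN ^ i₁ * eN ^ (i₁ + p + 1) * b' by ring]
    apply le_antisymm
    · rw [Ideal.span_le]
      have h0 : tN ^ (p + 1) ∈ Ideal.span ({tN * a', b'} : Set N) := by
        refine (Ideal.unit_mul_mem_iff_mem _ hg).1 (Ideal.mem_span_pair.2 ⟨(β : N) * eN, tN, ?_⟩)
        linear_combination tN * hrel
      rintro x (rfl | rfl | rfl)
      · exact Ideal.mul_mem_mul (Ideal.mem_span_singleton_self _) h0
      · rw [mul_assoc _ a', mul_comm a' tN]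
        exact Ideal.mul_mem_mul (Ideal.mem_span_singleton_self _) (Ideal.subset_span (by simp))
      · exact Ideal.mul_mem_mul (Ideal.mem_span_singleton_self _) (Ideal.subset_span (by simp))
    · rw [Ideal.span_insert (x := tN * a'), Ideal.mul_sup, Ideal.span_singleton_mul_span_singleton,
        Ideal.span_singleton_mul_span_singleton, sup_le_iff, Ideal.span_le, Ideal.span_le,
        Set.singleton_subset_iff, Set.singleton_subset_iff, mul_comm tN a', ← mul_assoc]
      exact ⟨Ideal.subset_span (by simp), Ideal.subset_span (by simp)⟩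
  rw [hI, colon_eq a hmax ha hD, len_mul (isSMulRegular_of_prime hpt htb)]
  rw [show i₁ + p + 1 - 1 - i₁ = p by omega, show i₁ + p + 1 - i₁ = p + 1 by omega, Nat.cast_succ,
    add_mul, one_mul, add_comm ((p : ℕ∞) * _), add_assoc]
  congr 1
  -- `(a', b')` and `(t ^ p, b')`
  have hkey : len (Ideal.span ({eN * a', b'} : Set N)) =
      (p : ℕ∞) * len (Ideal.span ({tN, b'} : Set N)) := by
    rw [← len_pow (isSMulRegular_of_prime hpt htb)]
    congr 1
    rw [span_pair_congr_left β.isUnit (b := algebraMap B N γ * tN ^ p) (c := -b')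
      (by rw [← hrel]; ring) ⟨-1, by ring⟩]
    exact (span_pair_congr_left hg (b := algebraMap B N γ * tN ^ p) (c := 0)
      (by ring) (dvd_zero _)).symm
  rw [← hkey]
  have heb : ¬ eN ∣ b' := fun h => by
    have h1 : eN ∣ algebraMap B N γ * tN ^ p := hrel ▸ dvd_add (dvd_mul_left _ _) h
    rcases hpe.dvd_or_dvd h1 with h2 | h2
    · exact hpe.not_unit (isUnit_of_dvd_unit h2 hg)
    · exact het (hpe.dvd_of_dvd_pow h2)
  have heb' : len (Ideal.span ({eN, b'} : Set N)) = (p : ℕ∞) := by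
    have h1 : Ideal.span ({b', eN} : Set N) = Ideal.span ({tN ^ p, eN} : Set N) := by
      rw [span_pair_congr_left isUnit_one (b := algebraMap B N γ * tN ^ p)
        (c := -((β : N) * a' * eN)) (by rw [← hrel]; ring) ⟨-((β : N) * a'), by ring⟩]
      exact (span_pair_congr_left hg (b := algebraMap B N γ * tN ^ p) (c := 0)
        (by ring) (dvd_zero _)).symm
    rw [Ideal.span_pair_comm, h1, len_pow (isSMulRegular_of_prime_right hpe het), len_te a hmax,
      mul_one]
  rw [len_mul (isSMulRegular_of_prime hpe heb), heb', add_comm]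

theorem not_fixIdeal_le (j : ℕ) (hj : 1 ≤ j) (γ : B) (hγ : IsUnit γ) (σ : N ≃+* N)
    (hσ : σ (algebraMap B N a) = algebraMap B N (a + γ * a ^ j)) :
    ¬ fixIdeal σ ≤ Ideal.span ({algebraMap B N (a ^ j)} : Set N) := by
  haveI := isDomain_node a hmax ha
  intro hle
  obtain ⟨m, rfl⟩ : ∃ m, j = m + 1 := ⟨j - 1, by omega⟩
  obtain ⟨x, hx⟩ := Ideal.mem_span_singleton'.1 (hle (mem_fixIdeal a hmax σ tN))
  obtain ⟨y, hy⟩ := Ideal.mem_span_singleton'.1 (hle (mem_fixIdeal a hmax σ eN))
  have hpi : algebraMap B N (a ^ (m + 1)) = tN ^ (m + 1) * eN ^ (m + 1) := by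
    rw [map_pow, ← t_mul_e, mul_pow]
  rw [hpi] at hx hy
  have ht : σ tN = (1 + x * (tN ^ m * eN ^ (m + 1))) * tN := by linear_combination -hx
  have he : σ eN = (1 + y * (tN ^ (m + 1) * eN ^ m)) * eN := by linear_combination -hy
  have hrel := rel_stab a hmax ha (m + 1) (by omega) σ γ hσ ht he
  rw [Nat.add_sub_cancel] at hrel
  have hkey : algebraMap B N γ = x * eN + y * tN + x * y * (tN ^ (m + 1) * eN ^ (m + 1)) := by
    refine mul_left_cancel₀ (mul_ne_zero (pow_ne_zero m (te_ne_zero a hmax ha).1)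
      (pow_ne_zero m (te_ne_zero a hmax ha).2)) ?_
    linear_combination -hrel
  have : algebraMap B N γ ∈ Ideal.span ({tN, eN} : Set N) := by
    rw [hkey]
    refine add_mem (add_mem (Ideal.mul_mem_left _ _ (Ideal.subset_span (by simp)))
      (Ideal.mul_mem_left _ _ (Ideal.subset_span (by simp)))) (Ideal.mul_mem_left _ _ ?_)
    rw [pow_succ', mul_assoc]
    exact Ideal.mul_mem_right _ _ (Ideal.subset_span (by simp))
  exact (not_isUnit_iff a hmax _).2 this (hγ.map _)

end Domain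

end Groth.Agent.ArLefNode
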