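import Groth.Prelude.Def_W4c2arithlefschetzNode
import Groth.Agent.ArLefNode.Length

/-!
Fixed-point ideals of automorphisms of `B[[X]]` over a discrete valuation ring, and their lengths.
-/

set_option autoImplicit false
set_option linter.style.haveILetI false
set_option linter.unusedSectionVars false
set_option backward.isDefEq.respectTransparency false

universe u

open ArLef IsLocalRing

namespace Groth.Agent.ArLefNode

variable {B : Type u} [CommRing B] [IsLocalRing B] [IsNoetherianRing B]

theorem ps_fixIdeal_le (σ : PowerSeries B ≃+* PowerSeries B) (J : Ideal (PowerSeries B))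
    (hB : ∀ b : B, σ (algebraMap B (PowerSeries B) b) - algebraMap B (PowerSeries B) b ∈ J)
    (hX : σ PowerSeries.X - PowerSeries.X ∈ J) : fixIdeal σ ≤ J := by
  let m := maximalIdeal (PowerSeries B)
  have hXm : (PowerSeries.X : PowerSeries B) ∈ m := (mem_maximalIdeal _).2 fun h => by
    rw [PowerSeries.isUnit_iff_constantCoeff, PowerSeries.constantCoeff_X] at h
    exact not_isUnit_zero h
  have key : ∀ n : ℕ, ∀ x : PowerSeries B, σ x - x ∈ J ⊔ m ^ n := by
    intro n
    induction n with
    | zero => intro x; rw [pow_zero, Ideal.one_eq_top, sup_top_eq]; exact Submodule.mem_top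
    | succ n ih =>
      intro x
      let z : PowerSeries B := PowerSeries.mk fun p => PowerSeries.coeff (p + 1) x
      let c : PowerSeries B := algebraMap B (PowerSeries B) (PowerSeries.constantCoeff x)
      have hx : x = PowerSeries.X * z + c := PowerSeries.eq_X_mul_shift_add_const x
      have : σ x - x = (σ c - c) + (σ PowerSeries.X - PowerSeries.X) * σ z +
          PowerSeries.X * (σ z - z) := by
        conv_lhs => rw [hx]
        rw [map_add, map_mul]; ring
      rw [this]
      refine add_mem (Ideal.mem_sup_left (add_mem (hB _) (Ideal.mul_mem_right _ _ hX))) ?_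
      obtain ⟨u, hu, v, hv, huv⟩ := Submodule.mem_sup.1 (ih z)
      rw [← huv, mul_add, pow_succ']
      exact Submodule.add_mem_sup (Ideal.mul_mem_left _ _ hu) (Ideal.mul_mem_mul hXm hv)
  rw [fixIdeal, Ideal.span_le]
  rintro _ ⟨x, rfl⟩
  change σ x - x ∈ J
  rw [← Submodule.Quotient.mk_eq_zero]
  have : (Submodule.Quotient.mk (σ x - x) : PowerSeries B ⧸ J) ∈
      (⨅ n : ℕ, m ^ n • (⊤ : Submodule (PowerSeries B) (PowerSeries B ⧸ J))) := by
    rw [Submodule.mem_iInf]
    intro n
    obtain ⟨u, hu, v, hv, huv⟩ := Submodule.mem_sup.1 (key n x)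
    rw [← huv, Submodule.Quotient.mk_add, (Submodule.Quotient.mk_eq_zero J).2 hu, zero_add,
      show v = v • (1 : PowerSeries B) by simp, Submodule.Quotient.mk_smul]
    exact Submodule.smul_mem_smul hv Submodule.mem_top
  rwa [Ideal.iInf_pow_smul_eq_bot_of_le_jacobson _ (IsLocalRing.maximalIdeal_le_jacobson _),
    Submodule.mem_bot] at this

variable [IsDomain B] {a : B} (hmax : maximalIdeal B = Ideal.span {a}) (ha : a ≠ 0)

include hmax in
theorem ps_ker_map : RingHom.ker (PowerSeries.map (residue B)) =
    Ideal.span {algebraMap B (PowerSeries B) a} := by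
  apply le_antisymm
  · intro g hg
    have hc : ∀ n, PowerSeries.coeff n g ∈ Ideal.span {a} := fun n => by
      rw [← hmax, ← residue_eq_zero_iff, ← PowerSeries.coeff_map, RingHom.mem_ker.1 hg, map_zero]
    choose c hc using fun n => Ideal.mem_span_singleton'.1 (hc n)
    refine Ideal.mem_span_singleton'.2 ⟨PowerSeries.mk c, ?_⟩
    ext n
    simp [← hc n, PowerSeries.coeff_mul_C, PowerSeries.algebraMap_eq]
  · rw [Ideal.span_le, Set.singleton_subset_iff, SetLike.mem_coe, RingHom.mem_ker,
      PowerSeries.algebraMap_eq, PowerSeries.map_C, (residue_eq_zero_iff a).2 ?_, map_zero]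
    rw [hmax]
    exact Ideal.mem_span_singleton_self a

include hmax ha in
theorem ps_len (n : ℕ) (f : PowerSeries B) (hf : ¬ algebraMap B (PowerSeries B) a ∣ f) :
    len (Ideal.span ({algebraMap B (PowerSeries B) a ^ n, f} : Set (PowerSeries B))) =
      (n : ℕ∞) * len (Ideal.span ({PowerSeries.map (residue B) f} :
        Set (PowerSeries (ResidueField B)))) := by
  have hne : algebraMap B (PowerSeries B) a ≠ 0 := by
    rw [PowerSeries.algebraMap_eq, ← map_zero (PowerSeries.C (R := B))]
    exact fun h => ha (PowerSeries.C_injective h)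
  have hsurj : Function.Surjective (PowerSeries.map (residue B)) := by
    intro g
    choose c hc using fun m => IsLocalRing.residue_surjective (PowerSeries.coeff m g)
    exact ⟨PowerSeries.mk c, PowerSeries.ext fun m => by simp [hc]⟩
  have hp : Prime (algebraMap B (PowerSeries B) a) := by
    rw [← Ideal.span_singleton_prime hne, ← ps_ker_map hmax]
    exact RingHom.ker_isPrime _
  rw [len_pow (isSMulRegular_of_prime hp hf)]
  congr 1
  rw [← len_comap _ hsurj]
  congr 1
  rw [← Set.image_singleton, ← Ideal.map_span, Ideal.comap_map_of_surjective _ hsurj,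
    ← RingHom.ker_eq_comap_bot, ps_ker_map hmax, Ideal.span_pair_comm, Ideal.span_insert]

include hmax ha in
theorem ps_fix_len (j : ℕ) (γ : B) (hγ : IsUnit γ) (σ : PowerSeries B ≃+* PowerSeries B)
    (hσB : ∀ b : B, σ (algebraMap B (PowerSeries B) b) - algebraMap B (PowerSeries B) b ∈
      Ideal.span ({algebraMap B (PowerSeries B) (a ^ j)} : Set (PowerSeries B)))
    (hσπ : σ (algebraMap B (PowerSeries B) a) = algebraMap B (PowerSeries B) (a + γ * a ^ j))
    (i : ℕ) (hij : i ≤ j) (f : PowerSeries B)
    (hf : σ PowerSeries.X - PowerSeries.X = algebraMap B (PowerSeries B) (a ^ i) * f)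
    (hfπ : ¬ algebraMap B (PowerSeries B) a ∣ f) :
    len ((fixIdeal σ).colon ({algebraMap B (PowerSeries B) (a ^ i)} : Set (PowerSeries B))) =
      ((j - i : ℕ) : ℕ∞) * len (Ideal.span ({PowerSeries.map (residue B) f} :
        Set (PowerSeries (ResidueField B)))) := by
  have hne : algebraMap B (PowerSeries B) (a ^ i) ≠ 0 := by
    rw [PowerSeries.algebraMap_eq, ← map_zero (PowerSeries.C (R := B))]
    exact fun h => pow_ne_zero i ha (PowerSeries.C_injective h)
  rw [← ps_len hmax ha (j - i) f hfπ]
  congr 1
  have hI : fixIdeal σ = Ideal.span {algebraMap B (PowerSeries B) (a ^ i)} *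
      Ideal.span ({algebraMap B (PowerSeries B) a ^ (j - i), f} : Set (PowerSeries B)) := by
    have hj : algebraMap B (PowerSeries B) (a ^ i) * algebraMap B (PowerSeries B) a ^ (j - i) =
        algebraMap B (PowerSeries B) (a ^ j) := by
      rw [← map_pow, ← map_mul, ← pow_add, Nat.add_sub_cancel' hij]
    apply le_antisymm
    · refine ps_fixIdeal_le σ _ (fun b => ?_) ?_
      · refine (Ideal.span_le.2 (Set.singleton_subset_iff.2 ?_) :
          Ideal.span ({algebraMap B (PowerSeries B) (a ^ j)} : Set (PowerSeries B)) ≤ _) (hσB b)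
        rw [← hj]
        exact Ideal.mul_mem_mul (Ideal.mem_span_singleton_self _) (Ideal.subset_span (Set.mem_insert _ _))
      · rw [hf]
        exact Ideal.mul_mem_mul (Ideal.mem_span_singleton_self _)
          (Ideal.subset_span (Set.mem_insert_of_mem _ rfl))
    · rw [Ideal.span_insert, Ideal.mul_sup, Ideal.span_singleton_mul_span_singleton,
        Ideal.span_singleton_mul_span_singleton, sup_le_iff, Ideal.span_le, Ideal.span_le,
        Set.singleton_subset_iff, Set.singleton_subset_iff, hj, ← hf]
      refine ⟨?_, Ideal.subset_span ⟨_, rfl⟩⟩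
      have h : σ (algebraMap B (PowerSeries B) a) - algebraMap B (PowerSeries B) a ∈ fixIdeal σ :=
        Ideal.subset_span ⟨_, rfl⟩
      rw [hσπ, map_add, add_sub_cancel_left, map_mul,
        Ideal.unit_mul_mem_iff_mem _ (hγ.map _)] at h
      exact h
  ext x
  rw [hI, Submodule.mem_colon_singleton, smul_eq_mul, Ideal.mem_span_singleton_mul]
  exact ⟨fun ⟨z, hz, h⟩ => by rwa [← mul_right_cancel₀ hne ((mul_comm z _).trans h)],
    fun hx => ⟨x, hx, mul_comm _ _⟩⟩

end Groth.Agent.ArLefNode
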