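import Groth.Prelude.Def_W4c2arithlefschetzNode
import Groth.Agent.ArtPow.Basic
import Groth.Agent.ArLefNode.Length

/-!
The ring `B[[x, y]]/(xy - a)` over a local ring `B` with maximal ideal `(a)`: maximal ideal, the two
branches, primeness, fixed-point ideals.
-/

set_option autoImplicit false
set_option linter.style.haveILetI false
set_option linter.unusedSectionVars false
set_option backward.isDefEq.respectTransparency false

universe u

open ArLef IsLocalRing

namespace Groth.Agent.ArLefNode

variable {B : Type u} [CommRing B] (a : B)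

local notation "N" => ArLef.NodeAlg B a

/-- The class in the node algebra. -/
noncomputable def mkN : MvPowerSeries (Fin 2) B →+* N := Ideal.Quotient.mk _

theorem mkN_surjective : Function.Surjective (mkN a) := Ideal.Quotient.mk_surjective

theorem mkN_C (b : B) : mkN a (MvPowerSeries.C b) = algebraMap B N b := rfl

theorem t_mul_e : NodeAlg.t a * NodeAlg.e a = algebraMap B N a := by
  change mkN a (MvPowerSeries.X 0) * mkN a (MvPowerSeries.X 1) = _
  rw [← map_mul, ← mkN_C]
  exact Ideal.Quotient.eq.2 (Ideal.mem_span_singleton_self _)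

theorem mkN_X_dvd (i : Fin 2) : mkN a (MvPowerSeries.X i) ∣ algebraMap B N a := by
  rw [← t_mul_e]
  fin_cases i
  · exact dvd_mul_right _ _
  · exact dvd_mul_left _ _

/-- The embedding of the index `j`. -/
def idx (j : Fin 2) : Unit ↪ Fin 2 := ⟨fun _ => j, fun _ _ _ => rfl⟩

variable [IsLocalRing B]

/-- Setting all variables but `j` to zero and reducing the coefficients. -/
noncomputable def branch (j : Fin 2) : MvPowerSeries (Fin 2) B →+* PowerSeries (ResidueField B) :=
  (PowerSeries.map (residue B)).comp (MvPowerSeries.killCompl (R := B) (idx j)).toRingHom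

theorem branch_C (j : Fin 2) (b : B) :
    branch j (MvPowerSeries.C b) = PowerSeries.C (residue B b) := by
  simp only [branch, RingHom.comp_apply, AlgHom.toRingHom_eq_coe, RingHom.coe_coe,
    MvPowerSeries.killCompl_C]
  exact PowerSeries.map_C _ b

theorem branch_X_self (j : Fin 2) :
    branch (B := B) j (MvPowerSeries.X j) = PowerSeries.X := by
  have : MvPowerSeries.killCompl (R := B) (idx j) (MvPowerSeries.X j) = PowerSeries.X :=
    MvPowerSeries.killCompl_X (R := B) (e := idx j) ()
  simp only [branch, RingHom.comp_apply, AlgHom.toRingHom_eq_coe, RingHom.coe_coe, this,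
    PowerSeries.map_X]

theorem branch_X_ne {i j : Fin 2} (h : i ≠ j) :
    branch (B := B) j (MvPowerSeries.X i) = 0 := by
  have : MvPowerSeries.killCompl (R := B) (idx j) (MvPowerSeries.X i) = 0 :=
    MvPowerSeries.killCompl_X_eq_zero (e := idx j) (by rintro ⟨_, rfl⟩; exact h rfl)
  simp only [branch, RingHom.comp_apply, AlgHom.toRingHom_eq_coe, RingHom.coe_coe, this, map_zero]

theorem branch_surjective (j : Fin 2) : Function.Surjective (branch (B := B) j) := by
  intro g
  obtain ⟨g', hg⟩ : ∃ g' : PowerSeries B, PowerSeries.map (residue B) g' = g := by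
    choose c hc using fun n => IsLocalRing.residue_surjective (PowerSeries.coeff n g)
    exact ⟨PowerSeries.mk c, PowerSeries.ext fun n => by simp [hc]⟩
  refine ⟨MvPowerSeries.rename (idx j) g', ?_⟩
  simp only [branch, RingHom.comp_apply, AlgHom.toRingHom_eq_coe, RingHom.coe_coe,
    MvPowerSeries.killCompl_rename_app, hg]

section

variable (hmax : maximalIdeal B = Ideal.span {a})
include hmax

theorem residue_a : residue B a = 0 := by
  rw [residue_eq_zero_iff, hmax]
  exact Ideal.mem_span_singleton_self a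

/-- The branch as a map out of the node algebra. -/
noncomputable def branchN (j : Fin 2) : N →+* PowerSeries (ResidueField B) :=
  Ideal.Quotient.lift _ (branch j) fun x hx => by
    obtain ⟨y, rfl⟩ := Ideal.mem_span_singleton'.1 hx
    have h0 : branch (B := B) j (MvPowerSeries.X 0) * branch (B := B) j (MvPowerSeries.X 1) = 0 := by
      fin_cases j
      · rw [branch_X_ne (i := 1) (by decide)]; exact mul_zero _
      · rw [branch_X_ne (i := 0) (by decide)]; exact zero_mul _
    rw [map_mul, map_sub, map_mul, h0, branch_C, residue_a a hmax, map_zero, sub_zero, mul_zero]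

theorem branchN_mkN (j : Fin 2) (x : MvPowerSeries (Fin 2) B) :
    branchN a hmax j (mkN a x) = branch j x := rfl

theorem branchN_surjective (j : Fin 2) : Function.Surjective (branchN a hmax j) := fun g => by
  obtain ⟨x, hx⟩ := branch_surjective j g
  exact ⟨mkN a x, hx⟩

theorem ker_branchN {i j : Fin 2} (hij : i ≠ j) :
    RingHom.ker (branchN a hmax j) = Ideal.span {mkN a (MvPowerSeries.X i)} := by
  apply le_antisymm
  · intro z hz
    obtain ⟨f, rfl⟩ := mkN_surjective a z
    rw [RingHom.mem_ker, branchN_mkN] at hz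
    let g : PowerSeries B := MvPowerSeries.killCompl (R := B) (idx j) f
    have hg : ∀ n, PowerSeries.coeff n g ∈ Ideal.span {a} := fun n => by
      rw [← hmax, ← residue_eq_zero_iff, ← PowerSeries.coeff_map]
      exact (congrArg (PowerSeries.coeff n) hz).trans (map_zero _)
    choose c hc using fun n => Ideal.mem_span_singleton'.1 (hg n)
    have hgC : g = PowerSeries.C a * PowerSeries.mk c := PowerSeries.ext fun n => by
      simp [← hc n, mul_comm]
    have hdvd : MvPowerSeries.X i ∣ f - MvPowerSeries.rename (idx j) g := by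
      rw [MvPowerSeries.X_dvd_iff]
      intro m hm
      have : m = Finsupp.embDomain (idx j) (Finsupp.single () (m j)) := by
        rw [Finsupp.embDomain_single]
        ext k
        rcases eq_or_ne k j with rfl | hk
        · simp [idx]
        · have : k = i := by omega
          subst this
          simp [idx, hm, hij.symm]
      rw [map_sub, this, MvPowerSeries.coeff_embDomain_rename, MvPowerSeries.coeff_killCompl,
        sub_self]
    obtain ⟨h, hh⟩ := hdvd
    have : mkN a f = mkN a (MvPowerSeries.X i) * mkN a h +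
        mkN a (MvPowerSeries.rename (idx j) g) := by
      rw [← map_mul, ← hh, ← map_add, sub_add_cancel]
    rw [this, Ideal.mem_span_singleton]
    refine dvd_add (dvd_mul_right _ _) ?_
    have hC : MvPowerSeries.rename (idx j) (PowerSeries.C a) =
        (MvPowerSeries.C a : MvPowerSeries (Fin 2) B) := MvPowerSeries.rename_C (idx j) a
    rw [hgC, map_mul, hC, map_mul, mkN_C]
    exact dvd_mul_of_dvd_left (mkN_X_dvd a i) _
  · rw [Ideal.span_le, Set.singleton_subset_iff]
    exact branch_X_ne hij

theorem isUnit_iff_branchN (j : Fin 2) (x : N) :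
    IsUnit x ↔ IsUnit (branchN a hmax j x) := by
  refine ⟨fun h => h.map _, fun h => ?_⟩
  obtain ⟨f, rfl⟩ := mkN_surjective a x
  refine IsUnit.map (mkN a) (MvPowerSeries.isUnit_iff_constantCoeff.2 ?_)
  rw [branchN_mkN, PowerSeries.isUnit_iff_constantCoeff] at h
  have h' : PowerSeries.constantCoeff (branch j f) = residue B (MvPowerSeries.constantCoeff f) := by
    rw [← PowerSeries.coeff_zero_eq_constantCoeff_apply, branch, RingHom.comp_apply,
      PowerSeries.coeff_map, ← MvPowerSeries.coeff_zero_eq_constantCoeff_apply]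
    refine congrArg (residue B) ?_
    change MvPowerSeries.coeff (Finsupp.single () 0) (MvPowerSeries.killCompl (idx j) f) = _
    rw [Finsupp.single_zero, MvPowerSeries.coeff_killCompl, Finsupp.embDomain_zero]
  rw [h'] at h
  by_contra hu
  exact h.ne_zero ((residue_eq_zero_iff _).2 ((mem_maximalIdeal _).2 hu))

theorem nontrivial_node : Nontrivial N :=
  (branchN a hmax 0).domain_nontrivial

theorem isLocalRing_node : IsLocalRing N :=
  haveI := nontrivial_node a hmax
  IsLocalRing.of_surjective' (mkN a) (mkN_surjective a)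

theorem isPrime_span (i : Fin 2) : (Ideal.span {mkN a (MvPowerSeries.X i)}).IsPrime := by
  obtain ⟨j, hj⟩ : ∃ j : Fin 2, i ≠ j := ⟨i + 1, by fin_cases i <;> decide⟩
  rw [← ker_branchN a hmax hj]
  exact RingHom.ker_isPrime _

theorem exists_decomp (x : N) :
    ∃ (b : B) (r s : N), x = algebraMap B N b + NodeAlg.t a * r + NodeAlg.e a * s := by
  obtain ⟨f, rfl⟩ := mkN_surjective a x
  have h := Groth.Agent.ArtPow.sub_C_constantCoeff_mem f
  rw [Ideal.mem_span_range_iff_exists_fun] at h
  obtain ⟨c, hc⟩ := h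
  rw [Fin.sum_univ_two] at hc
  refine ⟨MvPowerSeries.constantCoeff f, mkN a (c 0), mkN a (c 1), ?_⟩
  rw [show f = MvPowerSeries.C (MvPowerSeries.constantCoeff f) + MvPowerSeries.X 0 * c 0 +
      MvPowerSeries.X 1 * c 1 by rw [add_assoc, mul_comm _ (c 0), mul_comm _ (c 1), hc,
        add_sub_cancel], map_add, map_add, map_mul, map_mul, mkN_C]
  simp only [map_add, map_mul, MvPowerSeries.constantCoeff_C, MvPowerSeries.constantCoeff_X,
    zero_mul, add_zero]
  rfl

theorem te_notMem : NodeAlg.e a ∉ Ideal.span {NodeAlg.t a} ∧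
    NodeAlg.t a ∉ Ideal.span {NodeAlg.e a} := by
  constructor
  · intro h
    change mkN a (MvPowerSeries.X 1) ∈ Ideal.span {mkN a (MvPowerSeries.X 0)} at h
    rw [← ker_branchN a hmax (show (0 : Fin 2) ≠ 1 by decide), RingHom.mem_ker, branchN_mkN,
      branch_X_self] at h
    exact PowerSeries.X_ne_zero h
  · intro h
    change mkN a (MvPowerSeries.X 0) ∈ Ideal.span {mkN a (MvPowerSeries.X 1)} at h
    rw [← ker_branchN a hmax (show (1 : Fin 2) ≠ 0 by decide), RingHom.mem_ker, branchN_mkN,
      branch_X_self] at h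
    exact PowerSeries.X_ne_zero h

theorem not_isUnit_te : ¬ IsUnit (NodeAlg.t a) ∧ ¬ IsUnit (NodeAlg.e a) := by
  constructor
  · intro h
    exact (te_notMem a hmax).1 (Ideal.eq_top_of_isUnit_mem _ (Ideal.mem_span_singleton_self _) h ▸
      Submodule.mem_top)
  · intro h
    exact (te_notMem a hmax).2 (Ideal.eq_top_of_isUnit_mem _ (Ideal.mem_span_singleton_self _) h ▸
      Submodule.mem_top)

theorem span_te_isMaximal :
    (Ideal.span ({NodeAlg.t a, NodeAlg.e a} : Set N)).IsMaximal := by
  haveI := isLocalRing_node a hmax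
  suffices h : Ideal.span ({NodeAlg.t a, NodeAlg.e a} : Set N) = maximalIdeal N by
    rw [h]; infer_instance
  apply le_antisymm
  · rw [Ideal.span_le, Set.insert_subset_iff, Set.singleton_subset_iff]
    exact ⟨(mem_maximalIdeal _).2 (not_isUnit_te a hmax).1,
      (mem_maximalIdeal _).2 (not_isUnit_te a hmax).2⟩
  · intro x hx
    obtain ⟨b, r, s, rfl⟩ := exists_decomp a hmax x
    refine add_mem (add_mem ?_ (Ideal.mul_mem_right _ _ (Ideal.subset_span (by simp))))
      (Ideal.mul_mem_right _ _ (Ideal.subset_span (by simp)))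
    have hb : b ∈ maximalIdeal B := by
      refine (mem_maximalIdeal _).2 fun hu => ?_
      have h1 := Ideal.mul_mem_right r (maximalIdeal N) ((mem_maximalIdeal _).2 (not_isUnit_te a hmax).1)
      have h2 := Ideal.mul_mem_right s (maximalIdeal N) ((mem_maximalIdeal _).2 (not_isUnit_te a hmax).2)
      have := sub_mem (sub_mem hx h2) h1
      rw [add_sub_cancel_right, add_sub_cancel_right] at this
      exact (mem_maximalIdeal _).1 this (hu.map _)
    rw [hmax, Ideal.mem_span_singleton'] at hb
    obtain ⟨c, rfl⟩ := hb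
    rw [map_mul, ← t_mul_e]
    exact Ideal.mul_mem_left _ _ (Ideal.mul_mem_right _ _ (Ideal.subset_span (by simp)))

theorem maximalIdeal_eq [IsLocalRing N] :
    maximalIdeal N = Ideal.span ({NodeAlg.t a, NodeAlg.e a} : Set N) :=
  (IsLocalRing.eq_maximalIdeal (span_te_isMaximal a hmax)).symm

theorem len_te : len (Ideal.span ({NodeAlg.t a, NodeAlg.e a} : Set N)) = 1 :=
  haveI := span_te_isMaximal a hmax
  len_maximal _

theorem not_isUnit_iff (x : N) :
    ¬ IsUnit x ↔ x ∈ Ideal.span ({NodeAlg.t a, NodeAlg.e a} : Set N) := by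
  haveI := isLocalRing_node a hmax
  rw [← maximalIdeal_eq a hmax]
  exact (mem_maximalIdeal x).symm

variable [IsNoetherianRing B]

/-- The fixed-point ideal is generated by the differences on `B`, `t` and `e`. -/
theorem fixIdeal_le (σ : N ≃+* N) (J : Ideal N)
    (hB : ∀ b : B, σ (algebraMap B N b) - algebraMap B N b ∈ J)
    (ht : σ (NodeAlg.t a) - NodeAlg.t a ∈ J) (he : σ (NodeAlg.e a) - NodeAlg.e a ∈ J) :
    fixIdeal σ ≤ J := by
  haveI := isLocalRing_node a hmax
  let m := maximalIdeal N
  have hm : ∀ x ∈ m, σ x ∈ m := fun x hx => (mem_maximalIdeal _).2 fun h =>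
    (mem_maximalIdeal _).1 hx (by simpa using h.map σ.symm)
  have key : ∀ n : ℕ, ∀ x : N, σ x - x ∈ J ⊔ m ^ n := by
    intro n
    induction n with
    | zero => intro x; rw [pow_zero, Ideal.one_eq_top, sup_top_eq]; exact Submodule.mem_top
    | succ n ih =>
      intro x
      obtain ⟨b, r, s, rfl⟩ := exists_decomp a hmax x
      have step : ∀ y ∈ m, σ y - y ∈ J → ∀ z, σ (y * z) - y * z ∈ J ⊔ m ^ (n + 1) := by
        intro y hy hyJ z
        have : σ (y * z) - y * z = (σ y - y) * σ z + y * (σ z - z) := by rw [map_mul]; ring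
        rw [this]
        refine add_mem (Ideal.mem_sup_left (Ideal.mul_mem_right _ _ hyJ)) ?_
        obtain ⟨u, hu, v, hv, huv⟩ := Submodule.mem_sup.1 (ih z)
        rw [← huv, mul_add, pow_succ']
        exact Submodule.add_mem_sup (Ideal.mul_mem_left _ _ hu) (Ideal.mul_mem_mul hy hv)
      have htm : NodeAlg.t a ∈ m := (mem_maximalIdeal _).2 (not_isUnit_te a hmax).1
      have hem : NodeAlg.e a ∈ m := (mem_maximalIdeal _).2 (not_isUnit_te a hmax).2
      have : σ (algebraMap B N b + NodeAlg.t a * r + NodeAlg.e a * s) -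
          (algebraMap B N b + NodeAlg.t a * r + NodeAlg.e a * s) =
          (σ (algebraMap B N b) - algebraMap B N b) +
            (σ (NodeAlg.t a * r) - NodeAlg.t a * r) + (σ (NodeAlg.e a * s) - NodeAlg.e a * s) := by
        rw [map_add, map_add]; ring
      rw [this]
      exact add_mem (add_mem (Ideal.mem_sup_left (hB b)) (step _ htm ht r)) (step _ hem he s)
  rw [fixIdeal, Ideal.span_le]
  rintro _ ⟨x, rfl⟩
  change σ x - x ∈ J
  rw [← Submodule.Quotient.mk_eq_zero]
  have : (Submodule.Quotient.mk (σ x - x) : N ⧸ J) ∈ (⨅ n : ℕ, m ^ n • (⊤ : Submodule N (N ⧸ J))) := by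
    rw [Submodule.mem_iInf]
    intro n
    obtain ⟨u, hu, v, hv, huv⟩ := Submodule.mem_sup.1 (key n x)
    rw [← huv, Submodule.Quotient.mk_add, (Submodule.Quotient.mk_eq_zero J).2 hu, zero_add,
      show v = v • (1 : N) by simp, Submodule.Quotient.mk_smul]
    exact Submodule.smul_mem_smul hv Submodule.mem_top
  rwa [Ideal.iInf_pow_smul_eq_bot_of_le_jacobson _ (IsLocalRing.maximalIdeal_le_jacobson _),
    Submodule.mem_bot] at this

end

section Domain

variable [IsDomain B] (hmax : maximalIdeal B = Ideal.span {a}) (ha : a ≠ 0) [IsNoetherianRing B]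
include hmax ha

theorem t_mul_eq_zero {x : N} (h : NodeAlg.t a * x = 0) : x = 0 := by
  obtain ⟨f, rfl⟩ := mkN_surjective a x
  change mkN a (MvPowerSeries.X 0) * mkN a f = 0 at h
  rw [← map_mul] at h
  obtain ⟨g, hg⟩ := Ideal.mem_span_singleton'.1 (Ideal.Quotient.eq_zero_iff_mem.1 h)
  have hX : MvPowerSeries.X 0 ∣ g * MvPowerSeries.C a :=
    ⟨g * MvPowerSeries.X 1 - f, by linear_combination (-1 : MvPowerSeries (Fin 2) B) * hg⟩
  rw [MvPowerSeries.X_dvd_iff] at hX
  obtain ⟨g', rfl⟩ : MvPowerSeries.X 0 ∣ g := MvPowerSeries.X_dvd_iff.2 fun m hm => by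
    have := hX m hm
    rw [mul_comm, MvPowerSeries.coeff_C_mul] at this
    exact (mul_eq_zero.1 this).resolve_left ha
  have : f = g' * (MvPowerSeries.X 0 * MvPowerSeries.X 1 - MvPowerSeries.C a) := by
    ext m
    have h2 := congrArg (MvPowerSeries.coeff (Finsupp.single 0 1 + m)) hg
    rw [mul_assoc] at h2
    simp only [MvPowerSeries.X_def, MvPowerSeries.coeff_add_monomial_mul, one_mul] at h2 ⊢
    exact h2.symm
  exact Ideal.Quotient.eq_zero_iff_mem.2 (Ideal.mem_span_singleton'.2 ⟨g', this.symm⟩)

theorem isDomain_node : IsDomain N := by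
  haveI := isLocalRing_node a hmax
  have hne : Ideal.span {NodeAlg.t a} ≠ ⊤ := fun h =>
    (te_notMem a hmax).1 (h ▸ Submodule.mem_top)
  have hfac : ∀ x : N, x ≠ 0 → ∃ (n : ℕ) (y : N), x = NodeAlg.t a ^ n * y ∧
      y ∉ Ideal.span {NodeAlg.t a} := by
    intro x hx
    obtain ⟨n, hn⟩ : ∃ n, x ∉ Ideal.span {NodeAlg.t a} ^ n := by
      by_contra hcon
      push Not at hcon
      have : x ∈ (⨅ n, Ideal.span {NodeAlg.t a} ^ n) := Ideal.mem_iInf.2 hcon
      rw [Ideal.iInf_pow_eq_bot_of_isLocalRing _ hne] at this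
      exact hx (Ideal.mem_bot.1 this)
    induction n with
    | zero => exact absurd Submodule.mem_top (by rwa [pow_zero, Ideal.one_eq_top] at hn)
    | succ n ih =>
      by_cases h : x ∈ Ideal.span {NodeAlg.t a} ^ n
      · rw [Ideal.span_singleton_pow, Ideal.mem_span_singleton'] at h
        obtain ⟨y, rfl⟩ := h
        refine ⟨n, y, mul_comm _ _, fun hy => hn ?_⟩
        rw [pow_succ']
        exact Ideal.mul_mem_mul hy (by rw [Ideal.span_singleton_pow]; exact Ideal.mem_span_singleton_self _)
      · exact ih h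
  haveI := nontrivial_node a hmax
  haveI : NoZeroDivisors N := ⟨fun {x y} h => by
    by_contra hxy
    push Not at hxy
    obtain ⟨n, x', rfl, hx'⟩ := hfac x hxy.1
    obtain ⟨m, y', rfl, hy'⟩ := hfac y hxy.2
    have hp : ∀ (k : ℕ) (z : N), NodeAlg.t a ^ k * z = 0 → z = 0 := by
      intro k
      induction k with
      | zero => intro z hz; simpa using hz
      | succ k ih => intro z hz; exact ih z (t_mul_eq_zero a hmax ha (by rw [← hz]; ring))
    have h0 : x' * y' = 0 := hp (n + m) _ (by rw [← h]; ring)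
    haveI : (Ideal.span {NodeAlg.t a}).IsPrime := isPrime_span a hmax 0
    rcases Ideal.IsPrime.mem_or_mem (I := Ideal.span {NodeAlg.t a}) inferInstance
      (h0 ▸ zero_mem _ : x' * y' ∈ Ideal.span {NodeAlg.t a}) with h1 | h1
    exacts [hx' h1, hy' h1]⟩
  exact NoZeroDivisors.to_isDomain _

theorem te_ne_zero : NodeAlg.t a ≠ 0 ∧ NodeAlg.e a ≠ 0 :=
  ⟨fun h => (te_notMem a hmax).2 (h ▸ zero_mem _), fun h => (te_notMem a hmax).1 (h ▸ zero_mem _)⟩

theorem prime_t : Prime (NodeAlg.t a) :=
  (Ideal.span_singleton_prime (te_ne_zero a hmax ha).1).1 (isPrime_span a hmax 0)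

theorem prime_e : Prime (NodeAlg.e a) :=
  (Ideal.span_singleton_prime (te_ne_zero a hmax ha).2).1 (isPrime_span a hmax 1)

end Domain

end Groth.Agent.ArLefNode
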